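import Groth.Agent.FerrandEtLib.Alg
import Groth.Agent.PushLib.Props
import Groth.Agent.PushLib.Transfer
import Groth.Prelude.Def_FEt

/-!
Finite etale covers of the two legs of a Ferrand pushout which agree on the intersection glue to a finite
etale cover of the pushout.
-/

set_option autoImplicit false

universe u

open CategoryTheory CategoryTheory.Limits AlgebraicGeometry
open scoped TensorProduct

namespace Groth.Agent.FerrandEt

open Groth.Agent.PushLib

/-- An affine-preimage chart of a morphism is cartesian. -/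
theorem isPullback_chart {X Y : Scheme.{u}} (f : X ⟶ Y) {U : Y.Opens} (hU : IsAffineOpen U) {V : X.Opens}
    (hV : IsAffineOpen V) (hVU : V = f ⁻¹ᵁ U) :
    IsPullback (Spec.map (f.appLE U V hVU.le)) hV.fromSpec hU.fromSpec f :=
  IsOpenImmersion.isPullback _ _ _ _ (IsAffineOpen.SpecMap_appLE_fromSpec f hU hV hVU.le).symm
    (by rw [hU.opensRange_fromSpec, hV.opensRange_fromSpec, hVU])

/-- A cartesian square of schemes gives pushouts of rings on affine charts. -/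
theorem isPushout_appLE {X Y Z T : Scheme.{u}} {i : T ⟶ X} {p : T ⟶ Z} {g : X ⟶ Y} {k : Z ⟶ Y}
    (h : IsPullback i p g k) {U : Y.Opens} (hU : IsAffineOpen U) {UX : X.Opens} (hX : IsAffineOpen UX)
    (eX : UX = g ⁻¹ᵁ U) {UZ : Z.Opens} (hZ : IsAffineOpen UZ) (eZ : UZ = k ⁻¹ᵁ U) {UT : T.Opens}
    (hT : IsAffineOpen UT) (eT : UT = i ⁻¹ᵁ UX) (eT' : UT = p ⁻¹ᵁ UZ) :
    IsPushout (g.appLE U UX eX.le) (k.appLE U UZ eZ.le) (i.appLE UX UT eT.le) (p.appLE UZ UT eT'.le) := by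
  have h1 := (isPullback_chart i hX hT eT).paste_vert h
  have h2 := isPullback_chart k hU hZ eZ
  have h3 : IsPullback (Spec.map (i.appLE UX UT eT.le)) (Spec.map (p.appLE UZ UT eT'.le))
      (Spec.map (g.appLE U UX eX.le)) (Spec.map (k.appLE U UZ eZ.le)) := by
    refine IsPullback.of_bot ?_ ?_ h2.flip.flip
    · rw [show Spec.map (p.appLE UZ UT eT'.le) ≫ hZ.fromSpec = hT.fromSpec ≫ p from
        IsAffineOpen.SpecMap_appLE_fromSpec p hZ hT eT'.le,
        IsAffineOpen.SpecMap_appLE_fromSpec g hU hX eX.le]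
      exact h1
    · rw [← Spec.map_comp, ← Spec.map_comp]
      congr 1
      rw [Scheme.Hom.appLE_comp_appLE, Scheme.Hom.appLE_comp_appLE]
      simp only [h.w]
  exact (IsPullback.of_map Scheme.Spec (f := (i.appLE UX UT eT.le).op) (g := (p.appLE UZ UT eT'.le).op)
    (h := (g.appLE U UX eX.le).op) (i := (k.appLE U UZ eZ.le).op) (by rw [← op_comp, ← op_comp, Scheme.Hom.appLE_comp_appLE, Scheme.Hom.appLE_comp_appLE]; simp only [h.w]) h3).unop.flip

theorem finite_etale_appLE {X Y : Scheme.{u}} (f : X ⟶ Y) (hf : FEt.prop f) {U : Y.Opens} (hU : IsAffineOpen U)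
    {V : X.Opens} (hV : IsAffineOpen V) (e : V = f ⁻¹ᵁ U) :
    (f.appLE U V e.le).hom.Finite ∧ (f.appLE U V e.le).hom.Etale := by
  haveI : IsFinite f := hf.1
  haveI : Etale f := hf.2
  subst e
  exact ⟨by rw [← Scheme.Hom.app_eq_appLE]; exact f.finite_app _ hU,
    HasRingHomProperty.appLE @Etale f inferInstance ⟨U, hU⟩ ⟨_, hV⟩ le_rfl⟩

section Glue

variable {Z X Y : Scheme.{u}} {i : Z ⟶ X} {j : Z ⟶ Y} [IsClosedImmersion i]
variable {ZZ UU VV : Scheme.{u}} {i' : ZZ ⟶ UU} {j' : ZZ ⟶ VV} [IsClosedImmersion i']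
variable {pU : UU ⟶ X} {pV : VV ⟶ Y} {pZ : ZZ ⟶ Z}

/-- The nice pair over a nice pair. -/
def lift (hi : IsPullback i' pZ pU i) (hj : IsPullback j' pZ pV j) (hpU : FEt.prop pU) (hpV : FEt.prop pV)
    (p : Nice i j) : Nice i' j' where
  U := pU ⁻¹ᵁ p.U
  V := pV ⁻¹ᵁ p.V
  hU := haveI : IsFinite pU := hpU.1; p.hU.preimage pU
  hV := haveI : IsFinite pV := hpV.1; p.hV.preimage pV
  heq := by rw [← Scheme.Hom.comp_preimage, ← Scheme.Hom.comp_preimage, hi.w, hj.w, Scheme.Hom.comp_preimage,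
    Scheme.Hom.comp_preimage, p.heq]

variable (hi : IsPullback i' pZ pU i) (hj : IsPullback j' pZ pV j) (hpU : FEt.prop pU) (hpV : FEt.prop pV)
variable (hY : ∀ y : Y, ∃ p : Nice i j, y ∈ p.V) (hY' : ∀ y : VV, ∃ p : Nice i' j', y ∈ p.V)

theorem exists_preimage (w : Nice.P i' j') :
    (∃ x, Nice.a hY' x = w) ∨ ∃ y, Nice.b hY' y = w := by
  obtain ⟨q, z, rfl⟩ := (Nice.cover (i := i') (j := j')).exists_eq w
  rcases q.sq.exists_prime_over z with ⟨R, hR⟩ | ⟨Q, -, hQ, -, -⟩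
  · exact Or.inr ⟨q.hV.fromSpec R, (congrArg (fun f : _ ⟶ Nice.P i' j' => f R) (Nice.fromSpec_b hY' q)).trans
      (congrArg q.ι hR)⟩
  · exact Or.inl ⟨q.hU.fromSpec Q, (congrArg (fun f : _ ⟶ Nice.P i' j' => f Q) (Nice.fromSpec_a hY' q)).trans
      (congrArg q.ι hQ)⟩

include hi hj hpU hpV in
theorem glue_scheme : ∃ π : Nice.P i' j' ⟶ Nice.P i j, FEt.prop π ∧
    IsPullback (Nice.a hY') pU π (Nice.a hY) ∧ IsPullback (Nice.b hY') pV π (Nice.b hY) := by
  obtain ⟨π, hπa, hπb⟩ := Nice.exists_desc hY' (pU ≫ Nice.a hY) (pV ≫ Nice.b hY) (by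
    rw [← Category.assoc, hi.w, Category.assoc, Nice.w hY, ← Category.assoc, ← hj.w, Category.assoc])
  let L : Nice i j → Nice i' j' := lift hi hj hpU hpV
  -- the algebra over each chart
  have key : ∀ p : Nice i j, ∃ φ : p.ring →+* (L p).ring,
      (L p).ι ≫ π = Spec.map (CommRingCat.ofHom φ) ≫ p.ι ∧ φ.Finite ∧ φ.Etale ∧
      IsPullback (specMap (L p).sq.v) (Spec.map (pU.appLE p.U (L p).U le_rfl)) (specMap φ) (specMap p.sq.v) ∧
      IsPullback (specMap (L p).sq.u) (Spec.map (pV.appLE p.V (L p).V le_rfl)) (specMap φ) (specMap p.sq.u) := by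
    intro p
    let gU := pU.appLE p.U (L p).U le_rfl
    let gV := pV.appLE p.V (L p).V le_rfl
    have hZle : i' ⁻¹ᵁ (L p).U = pZ ⁻¹ᵁ (i ⁻¹ᵁ p.U) := by
      show i' ⁻¹ᵁ (pU ⁻¹ᵁ p.U) = _
      rw [← Scheme.Hom.comp_preimage, hi.w, Scheme.Hom.comp_preimage]
    let gZ := pZ.appLE (i ⁻¹ᵁ p.U) (i' ⁻¹ᵁ (L p).U) hZle.le
    have eq1 : gV ≫ (L p).q = p.q ≫ gZ := by
      simp only [gV, gZ, Nice.q, Scheme.Hom.appLE_comp_appLE, hj.w]
    have eq2 : gU ≫ (L p).p' = p.p' ≫ gZ := by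
      simp only [gU, gZ, Nice.p', Scheme.Hom.app_eq_appLE, Scheme.Hom.appLE_comp_appLE, hi.w]
    let φ : p.ring →+* (L p).ring :=
      ((gV.hom.comp p.sq.u).prod (gU.hom.comp p.sq.v)).codRestrict _ fun x => by
        show (L p).q.hom (gV.hom (p.sq.u x)) = (L p).p'.hom (gU.hom (p.sq.v x))
        rw [← CommRingCat.comp_apply, ← CommRingCat.comp_apply, eq1, eq2, CommRingCat.comp_apply,
          CommRingCat.comp_apply]
        exact congrArg gZ.hom (p.sq.w x)
    have hπ : (L p).ι ≫ π = Spec.map (CommRingCat.ofHom φ) ≫ p.ι := by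
      refine (L p).sq.hom_ext ?_ ?_
      · rw [← Category.assoc, ← Category.assoc, ← Nice.fromSpec_b hY' (L p), Category.assoc, hπb, ← Category.assoc,
          ← IsAffineOpen.SpecMap_appLE_fromSpec pV p.hV (L p).hV le_rfl, Category.assoc, Nice.fromSpec_b hY p,
          ← Category.assoc, ← Spec.map_comp, ← Spec.map_comp]
        rfl
      · rw [← Category.assoc, ← Category.assoc, ← Nice.fromSpec_a hY' (L p), Category.assoc, hπa, ← Category.assoc,
          ← IsAffineOpen.SpecMap_appLE_fromSpec pU p.hU (L p).hU le_rfl, Category.assoc, Nice.fromSpec_a hY p,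
          ← Category.assoc, ← Spec.map_comp, ← Spec.map_comp]
        rfl
    have pC : IsPushout gU p.p' (L p).p' gZ := by
      have := isPushout_appLE hi p.hU (L p).hU rfl (p.hU.preimage i) rfl ((L p).hU.preimage i') rfl hZle
      simpa only [Nice.p', Scheme.Hom.app_eq_appLE] using this
    have pD : IsPushout gV p.q (L p).q gZ :=
      isPushout_appLE hj p.hV (L p).hV rfl (p.hU.preimage i) p.heq ((L p).hU.preimage i') (L p).heq hZle
    obtain ⟨hfU, heU⟩ := finite_etale_appLE pU hpU p.hU (L p).hU rfl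
    obtain ⟨hfV, heV⟩ := finite_etale_appLE pV hpV p.hV (L p).hV rfl
    algebraize [p.sq.u, p.sq.v, p.q.hom, p.p'.hom, gU.hom, gV.hom, gZ.hom, (L p).q.hom, (L p).p'.hom, φ,
      (L p).sq.u, (L p).sq.v]
    letI : Algebra p.ring Γ(Z, i ⁻¹ᵁ p.U) := (p.q.hom.comp p.sq.u).toAlgebra
    haveI : IsScalarTower p.ring Γ(Y, p.V) Γ(Z, i ⁻¹ᵁ p.U) := IsScalarTower.of_algebraMap_eq fun _ => rfl
    haveI : IsScalarTower p.ring Γ(X, p.U) Γ(Z, i ⁻¹ᵁ p.U) := IsScalarTower.of_algebraMap_eq fun x => p.sq.w x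
    letI : Algebra Γ(Y, p.V) Γ(ZZ, i' ⁻¹ᵁ (L p).U) := (gZ.hom.comp p.q.hom).toAlgebra
    haveI : IsScalarTower Γ(Y, p.V) Γ(Z, i ⁻¹ᵁ p.U) Γ(ZZ, i' ⁻¹ᵁ (L p).U) := IsScalarTower.of_algebraMap_eq fun _ => rfl
    haveI : IsScalarTower Γ(Y, p.V) Γ(VV, (L p).V) Γ(ZZ, i' ⁻¹ᵁ (L p).U) := IsScalarTower.of_algebraMap_eq fun x =>
      (congrArg (fun t => t.hom x) eq1).symm
    letI : Algebra Γ(X, p.U) Γ(ZZ, i' ⁻¹ᵁ (L p).U) := (gZ.hom.comp p.p'.hom).toAlgebra
    haveI : IsScalarTower Γ(X, p.U) Γ(Z, i ⁻¹ᵁ p.U) Γ(ZZ, i' ⁻¹ᵁ (L p).U) := IsScalarTower.of_algebraMap_eq fun _ => rfl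
    haveI : IsScalarTower Γ(X, p.U) Γ(UU, (L p).U) Γ(ZZ, i' ⁻¹ᵁ (L p).U) := IsScalarTower.of_algebraMap_eq fun x =>
      (congrArg (fun t => t.hom x) eq2).symm
    letI : Algebra p.ring Γ(VV, (L p).V) := (gV.hom.comp p.sq.u).toAlgebra
    letI : Algebra p.ring Γ(UU, (L p).U) := (gU.hom.comp p.sq.v).toAlgebra
    haveI : IsScalarTower p.ring Γ(Y, p.V) Γ(VV, (L p).V) := IsScalarTower.of_algebraMap_eq fun _ => rfl
    haveI : IsScalarTower p.ring Γ(X, p.U) Γ(UU, (L p).U) := IsScalarTower.of_algebraMap_eq fun _ => rfl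
    haveI : IsScalarTower p.ring (L p).ring Γ(VV, (L p).V) := IsScalarTower.of_algebraMap_eq fun _ => rfl
    haveI : IsScalarTower p.ring (L p).ring Γ(UU, (L p).U) := IsScalarTower.of_algebraMap_eq fun _ => rfl
    haveI : Module.Finite Γ(X, p.U) Γ(UU, (L p).U) := hfU
    haveI : Module.Finite Γ(Y, p.V) Γ(VV, (L p).V) := hfV
    haveI : Algebra.Etale Γ(X, p.U) Γ(UU, (L p).U) := heU
    haveI : Algebra.Etale Γ(Y, p.V) Γ(VV, (L p).V) := heV
    have hsq : EtMil.IsFibreSquare p.ring Γ(Y, p.V) Γ(X, p.U) Γ(Z, i ⁻¹ᵁ p.U) :=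
      ⟨p.sq.surj, fun b a h => by
        obtain ⟨x, hx1, hx2⟩ := p.sq.lift b a h
        exact ⟨x, ⟨hx1, hx2⟩, fun y hy => p.sq.inj y x (hy.1.trans hx1.symm) (hy.2.trans hx2.symm)⟩⟩
    obtain ⟨g1, g2, g3, g4⟩ := FerrandEt.glue (R := p.ring) (B := Γ(Y, p.V)) (A' := Γ(X, p.U)) (A := Γ(Z, i ⁻¹ᵁ p.U))
      (D := Γ(VV, (L p).V)) (C' := Γ(UU, (L p).U)) (C := Γ(ZZ, i' ⁻¹ᵁ (L p).U)) (Q := (L p).ring) hsq
      (CommRingCat.isPushout_iff_isPushout.1 pD.flip) (CommRingCat.isPushout_iff_isPushout.1 pC.flip)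
      (L p).sq.inj (L p).sq.w (L p).sq.lift
    refine ⟨φ, hπ, g1, g2, ?_, ?_⟩
    · exact isPullback_SpecMap_of_isPushout _ _ _ _ (CommRingCat.isPushout_iff_isPushout.2 g4.symm)
    · exact isPullback_SpecMap_of_isPushout _ _ _ _ (CommRingCat.isPushout_iff_isPushout.2 g3.symm)
  choose φ hφ hfin het hcU hcV using key
  have hpre : ∀ p : Nice i j, π ⁻¹ᵁ p.ι.opensRange = (L p).ι.opensRange := fun p => by
    refine le_antisymm (fun w hw => ?_) ?_
    · rcases exists_preimage hY' w with ⟨x, rfl⟩ | ⟨y, rfl⟩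
      · have hx : x ∈ (L p).U := by
          show pU x ∈ p.U
          rw [← Nice.preimage_a hY p]
          show Nice.a hY (pU x) ∈ p.ι.opensRange
          rw [← Scheme.Hom.comp_apply, ← hπa]
          exact hw
        rw [← Nice.preimage_a hY' (L p)] at hx
        exact hx
      · have hy : y ∈ (L p).V := by
          show pV y ∈ p.V
          rw [← Nice.preimage_b hY p]
          show Nice.b hY (pV y) ∈ p.ι.opensRange
          rw [← Scheme.Hom.comp_apply, ← hπb]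
          exact hw
        rw [← Nice.preimage_b hY' (L p)] at hy
        exact hy
    · rintro _ ⟨z, rfl⟩
      show π ((L p).ι z) ∈ p.ι.opensRange
      rw [← Scheme.Hom.comp_apply, hφ]
      exact ⟨_, rfl⟩
  have hsq : ∀ p : Nice i j, IsPullback (Spec.map (CommRingCat.ofHom (φ p))) (L p).ι p.ι π := fun p =>
    IsOpenImmersion.isPullback _ _ _ _ (hφ p) (hpre p)
  have hloc : ∀ (Q : MorphismProperty Scheme.{u}) [IsZariskiLocalAtTarget Q],
      (∀ p, Q (Spec.map (CommRingCat.ofHom (φ p)))) → Q π := fun Q _ h => by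
    refine IsZariskiLocalAtTarget.of_openCover (Nice.cover (i := i) (j := j)) fun k => ?_
    have hpb := (hsq k).flip
    show Q (pullback.snd π k.ι)
    rw [← Q.cancel_left_of_respectsIso hpb.isoPullback.hom, hpb.isoPullback_hom_snd]
    exact h k
  have hgen : ∀ {X₀ U₀ : Scheme.{u}} (a₀ : X₀ ⟶ Nice.P i j) (a₀' : U₀ ⟶ Nice.P i' j') (q : U₀ ⟶ X₀)
      (W : Nice i j → Scheme.{u}) (W' : Nice i j → Scheme.{u}) (κ : ∀ p, W p ⟶ X₀) (κ' : ∀ p, W' p ⟶ U₀)
      (s : ∀ p, W p ⟶ Spec (.of p.ring)) (s' : ∀ p, W' p ⟶ Spec (.of (L p).ring)) (g : ∀ p, W' p ⟶ W p)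
      (_ : a₀' ≫ π = q ≫ a₀) (_ : ∀ p, IsPullback (s p) (κ p) p.ι a₀)
      (_ : ∀ p, IsPullback (s' p) (κ' p) (L p).ι a₀') (_ : ∀ p, g p ≫ κ p = κ' p ≫ q)
      (_ : ∀ p, IsPullback (s' p) (g p) (Spec.map (CommRingCat.ofHom (φ p))) (s p)),
      IsPullback a₀' q π a₀ := by
    intro X₀ U₀ a₀ a₀' q W W' κ κ' s s' g hw h1 h1' hg h2
    let c : U₀ ⟶ pullback π a₀ := pullback.lift a₀' q hw
    have hout : ∀ p, IsPullback (s' p) (κ' p ≫ q) ((L p).ι ≫ π) a₀ := fun p => by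
      rw [hφ, ← hg]
      exact (h2 p).paste_vert (h1 p)
    have htop : ∀ p, IsPullback (s' p) (κ' p ≫ c) (L p).ι (pullback.fst π a₀) := fun p => by
      refine IsPullback.of_bot ?_ ?_ (IsPullback.of_hasPullback π a₀)
      · rw [Category.assoc, pullback.lift_snd]; exact hout p
      · rw [Category.assoc, pullback.lift_fst]; exact (h1' p).w
    haveI : ∀ p, IsOpenImmersion (κ' p ≫ c) := fun p =>
      MorphismProperty.of_isPullback (htop p) inferInstance
    have hcov : ∀ z, ∃ p, z ∈ Set.range (κ' p ≫ c) := fun z => by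
      obtain ⟨k, y, hk⟩ := (Nice.cover (i := i) (j := j)).exists_eq (π (pullback.fst π a₀ z))
      have hz : pullback.fst π a₀ z ∈ (L k).ι.opensRange := (hpre k).le ⟨y, hk⟩
      obtain ⟨t, ht⟩ := hz
      obtain ⟨o, ho⟩ := Scheme.exists_preimage_of_isPullback (htop k) t z ht
      exact ⟨k, o, ho.2⟩
    choose kz hkz using hcov
    let 𝒱 : (pullback π a₀).OpenCover := Scheme.Cover.mkOfCovers _ (fun z => W' (kz z)) (fun z => κ' (kz z) ≫ c)
      (fun z => ⟨z, hkz z⟩) (fun z => inferInstance)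
    have hc : (MorphismProperty.isomorphisms Scheme.{u}) c := by
      refine IsZariskiLocalAtTarget.of_openCover 𝒱 fun z => ?_
      have hR : IsPullback (κ' (kz z)) (𝟙 _) c (κ' (kz z) ≫ c) := by
        have ho : IsPullback (κ' (kz z)) (s' (kz z)) (c ≫ pullback.fst π a₀) (L (kz z)).ι := by
          rw [pullback.lift_fst]
          exact (h1' (kz z)).flip
        refine IsPullback.of_bot ?_ (by rw [Category.id_comp]) (htop (kz z)).flip
        rw [Category.id_comp]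
        exact ho
      show (MorphismProperty.isomorphisms Scheme.{u}) (pullback.snd c (κ' (kz z) ≫ c))
      refine (MorphismProperty.cancel_left_of_respectsIso (MorphismProperty.isomorphisms Scheme.{u}) hR.isoPullback.hom _).1 ?_
      rw [hR.isoPullback_hom_snd]
      exact MorphismProperty.isomorphisms.infer_property _
    haveI : IsIso c := hc
    exact IsPullback.of_iso_pullback ⟨hw⟩ (asIso c) (pullback.lift_fst _ _ _) (pullback.lift_snd _ _ _)
  refine ⟨π, ⟨hloc _ fun p => ?_, hloc _ fun p => ?_⟩,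
    hgen (Nice.a hY) (Nice.a hY') pU _ _ (fun p => p.hU.fromSpec) (fun p => (L p).hU.fromSpec) _ _
      (fun p => Spec.map (pU.appLE p.U (L p).U le_rfl)) hπa (Nice.isPullback_a hY)
      (fun p => Nice.isPullback_a hY' (L p)) (fun p => IsAffineOpen.SpecMap_appLE_fromSpec pU p.hU (L p).hU le_rfl) hcU,
    hgen (Nice.b hY) (Nice.b hY') pV _ _ (fun p => p.hV.fromSpec) (fun p => (L p).hV.fromSpec) _ _
      (fun p => Spec.map (pV.appLE p.V (L p).V le_rfl)) hπb (Nice.isPullback_b hY)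
      (fun p => Nice.isPullback_b hY' (L p)) (fun p => IsAffineOpen.SpecMap_appLE_fromSpec pV p.hV (L p).hV le_rfl) hcV⟩
  · rw [IsFinite.SpecMap_iff]; exact hfin p
  · rw [HasRingHomProperty.Spec_iff (P := @Etale)]; exact het p

end Glue

end Groth.Agent.FerrandEt
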