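import Mathlib
import Groth.Agent.S2021
import Groth.Agent.MilnorGlueLib.Basic

/-!
Glueing finite etale algebras over a Milnor square: the fibre product is finite etale and restricts to the
two given algebras.
-/

set_option autoImplicit false

universe u

namespace Groth.Agent.FerrandEt

open TensorProduct

variable {R B A' A : Type u} [CommRing R] [CommRing B] [CommRing A'] [CommRing A]
  [Algebra R B] [Algebra R A'] [Algebra B A] [Algebra A' A] [Algebra R A] [IsScalarTower R B A] [IsScalarTower R A' A]
variable {D C' C : Type u} [CommRing D] [CommRing C'] [CommRing C] [Algebra B D] [Algebra A' C'] [Algebra A C]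
  [Algebra D C] [Algebra C' C] [Algebra B C] [Algebra A' C] [IsScalarTower B A C] [IsScalarTower B D C]
  [IsScalarTower A' A C] [IsScalarTower A' C' C]
variable {Q : Type u} [CommRing Q] [Algebra R Q] [Algebra Q D] [Algebra Q C'] [Algebra R D] [Algebra R C']
  [IsScalarTower R Q D] [IsScalarTower R Q C'] [IsScalarTower R B D] [IsScalarTower R A' C']

theorem glue (hsq : EtMil.IsFibreSquare R B A' A) (hD : Algebra.IsPushout B A D C) (hC : Algebra.IsPushout A' A C' C)
    (hinj : ∀ x y : Q, algebraMap Q D x = algebraMap Q D y → algebraMap Q C' x = algebraMap Q C' y → x = y)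
    (hw : ∀ x : Q, algebraMap D C (algebraMap Q D x) = algebraMap C' C (algebraMap Q C' x))
    (hlift : ∀ (d : D) (c : C'), algebraMap D C d = algebraMap C' C c →
      ∃ x : Q, algebraMap Q D x = d ∧ algebraMap Q C' x = c)
    [Module.Finite B D] [Module.Finite A' C'] [Algebra.Etale B D] [Algebra.Etale A' C'] :
    Module.Finite R Q ∧ Algebra.Etale R Q ∧ Algebra.IsPushout R B Q D ∧ Algebra.IsPushout R A' Q C' := by
  haveI := hD
  haveI := hC
  haveI : Module.Projective B D := by
    haveI : Module.FinitePresentation B D :=
      Module.FinitePresentation.of_finite_of_finitePresentation _ _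
    exact Module.Flat.projective_of_finitePresentation
  haveI : Module.Projective A' C' := by
    haveI : Module.FinitePresentation A' C' :=
      Module.FinitePresentation.of_finite_of_finitePresentation _ _
    exact Module.Flat.projective_of_finitePresentation
  let eD : A ⊗[B] D ≃ₗ[A] C := (Algebra.IsPushout.equiv B A D C).toLinearEquiv
  let eC : A ⊗[A'] C' ≃ₗ[A] C := (Algebra.IsPushout.equiv A' A C' C).toLinearEquiv
  let φ : A ⊗[B] D ≃ₗ[A] A ⊗[A'] C' := eD.trans eC.symm
  have hφ : ∀ (d : D) (c : C'), φ ((1 : A) ⊗ₜ[B] d) = (1 : A) ⊗ₜ[A'] c ↔ algebraMap D C d = algebraMap C' C c := by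
    intro d c
    rw [LinearEquiv.trans_apply, LinearEquiv.symm_apply_eq]
    simp only [eD, eC, AlgEquiv.toLinearEquiv_apply, Algebra.IsPushout.equiv_tmul, map_one, one_mul]
  let g : Q →ₗ[R] EtMil.glue R φ :=
    LinearMap.codRestrict _ ((IsScalarTower.toAlgHom R Q D).toLinearMap.prod (IsScalarTower.toAlgHom R Q C').toLinearMap)
      (fun x => (hφ _ _).2 (hw x))
  have hg : Function.Bijective g := ⟨fun x y h => hinj x y (congrArg (fun z => z.1.1) h) (congrArg (fun z => z.1.2) h),
    fun ⟨⟨d, c⟩, hz⟩ => by
      obtain ⟨x, hxd, hxc⟩ := hlift d c ((hφ d c).1 hz)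
      exact ⟨x, Subtype.ext (Prod.ext hxd hxc)⟩⟩
  let e : Q ≃ₗ[R] EtMil.glue R φ := LinearEquiv.ofBijective g hg
  obtain ⟨hfin, hproj⟩ := (Groth.Agent.S2021.result R B A' A hsq D C' φ).2 inferInstance inferInstance inferInstance inferInstance
  haveI : Module.Finite R Q := Module.Finite.equiv e.symm
  haveI : Module.Projective R Q := Module.Projective.of_equiv e.symm
  haveI hpB : Algebra.IsPushout R B Q D := by
    rw [Algebra.isPushout_iff, IsBaseChange, IsTensorProduct]
    convert (MilnorGlueLib.bijective_glueFst φ hsq).comp (e.baseChange R B).bijective using 1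
    funext z
    induction z using TensorProduct.induction_on with
    | zero => simp
    | tmul b x => simp [e, g, EtMil.glueFst, LinearEquiv.baseChange]
    | add x y hx hy => simp_all [map_add]
  haveI hpA : Algebra.IsPushout R A' Q C' := by
    rw [Algebra.isPushout_iff, IsBaseChange, IsTensorProduct]
    convert (MilnorGlueLib.bijective_glueSnd φ hsq).comp (e.baseChange R A').bijective using 1
    funext z
    induction z using TensorProduct.induction_on with
    | zero => simp
    | tmul b x => simp [e, g, EtMil.glueSnd, LinearEquiv.baseChange]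
    | add x y hx hy => simp_all [map_add]
  haveI : Module.FinitePresentation R Q := Module.finitePresentation_of_projective R Q
  haveI : Algebra.FinitePresentation R Q := inferInstance
  haveI : Algebra.FormallyUnramified R Q := by
    refine ⟨?_⟩
    haveI : Subsingleton (B ⊗[R] Ω[Q⁄R]) := (KaehlerDifferential.tensorKaehlerEquivBase R B Q D).toEquiv.subsingleton
    haveI : Subsingleton (A' ⊗[R] Ω[Q⁄R]) := (KaehlerDifferential.tensorKaehlerEquivBase R A' Q C').toEquiv.subsingleton
    exact MilnorGlueLib.subsingleton_of_square hsq _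
  exact ⟨inferInstance, Algebra.Etale.of_formallyUnramified_of_flat, hpB, hpA⟩

end Groth.Agent.FerrandEt
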